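import Groth.Agent.Lib.PerfHom.Examples
import Groth.Agent.Lib.RelPC.MapPoly

/-!
# Surjections between flat algebras of finite presentation are pseudo-coherent
-/

set_option autoImplicit false
set_option linter.style.haveILetI false
universe u

open CategoryTheory GrothLib.DR

attribute [local instance] HasDerivedCategory.standard

namespace GrothLib.PCQuot3

variable {A B C : Type u} [CommRing A] [CommRing B] [CommRing C]

/-- Cancellation of a pseudo-coherent ring map on the right. -/
theorem ringPC_cancel {φ : A →+* B} {ψ : B →+* C} (hφ : RingPseudoCoherent φ)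
    (h : RingPseudoCoherent (ψ.comp φ)) : RingPseudoCoherent ψ := by
  refine (DR.isPseudoCoherent'_restrictD_iff hφ _).2 (DR.isPseudoCoherent'_of_iso ?_ h)
  exact (((ModuleCat.restrictScalars.{u} φ).mapDerivedCategorySingleFunctor 0).app
      ((ModuleCat.restrictScalars.{u} ψ).obj (ModuleCat.of C C)) ≪≫
    (DerivedCategory.singleFunctor (ModuleCat.{u} A) 0).mapIso
      ((ModuleCat.restrictScalarsComp'App φ ψ (ψ.comp φ) rfl (ModuleCat.of C C)).symm)).symm

theorem ringPC_of_flat {R : Type u} [CommRing R] [Algebra R B] [Algebra R C] [Algebra B C]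
    [IsScalarTower R B C] (hs : Function.Surjective (algebraMap B C)) [Module.Flat R B]
    [Algebra.FinitePresentation R B] [Module.Flat R C] [Algebra.FinitePresentation R C] :
    RingPseudoCoherent (algebraMap B C) := by
  obtain ⟨n, α, hα⟩ := RelPC.exists_pres (R := R) (A := B)
  have hB := RelPC.ringPC_of_relPC_self (PHom.relPC_of_isPseudoCoherentHom (PHom.of_flat (A := R) (B := B))) α hα
  have hC := RelPC.ringPC_of_relPC_self (PHom.relPC_of_isPseudoCoherentHom (PHom.of_flat (A := R) (B := C)))
    ((IsScalarTower.toAlgHom R B C).comp α) (hs.comp hα)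
  refine ringPC_cancel hB ?_
  exact hC

end GrothLib.PCQuot3
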